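import Cfsg.Agent.FusionAgemo.Induction
import Cfsg.Agent.Transfer.Residual

/-!
# Subsystems of `p`-power index

`isSubsystemOf_of_pResidual`: a saturated `E` over `T ≤ U` is contained in every system over `U`
that contains all `O^p(Aut_E(P))`. So saturated subsystems of `p`-power index are determined by
their subgroup.
-/

set_option autoImplicit false
set_option linter.style.haveILetI false

namespace CfsgLib.FusionPIndex

open Cfsg Cfsg.FusionSystem CfsgLib.Fusion CfsgLib.FusionAgemo

variable {Ω : Type*} [Group Ω] {S T U : Subgroup Ω} {p : ℕ}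

theorem pResidual_autGroup_mono {E : FusionSystem T} {F : FusionSystem S} (h : E.IsSubsystemOf F)
    {P : Subgroup Ω} (hP : P ≤ T) :
    (pResidual p (E.autGroup P)).map (E.autGroup P).subtype ≤
      (pResidual p (F.autGroup P)).map (F.autGroup P).subtype := by
  refine CfsgLib.Transfer.map_subtype_pResidual_mono fun α hα => ?_
  have hiso : IsIso E α := (mem_autGroup_iff hP).1 hα
  exact IsIso.mem_autGroup (h P hiso : IsIso F α)

theorem isSubsystemOf_of_pResidual [Finite T] [Fact p.Prime] (hT : IsPGroup p T)
    {E : FusionSystem T} (hE : E.IsSaturated p) {D : FusionSystem U} (hTU : T ≤ U)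
    (h : ∀ P : Subgroup Ω, P ≤ T →
      (pResidual p (E.autGroup P)).map (E.autGroup P).subtype ≤ D.autGroup P) :
    E.IsSubsystemOf D := by
  refine isSubsystemOf_of_aut hT hE fun P hP _ α hα => ?_
  obtain ⟨R, hR⟩ := (automized_receptive hT hE hP).1.2
  haveI := finite_of_le hP.1
  have hle : E.autGroup P ≤ D.autGroup P := by
    have htop := congrArg (Subgroup.map (E.autGroup P).subtype)
      (CfsgLib.Transfer.sylow_sup_pResidual R)
    rw [Subgroup.map_sup, ← MonoidHom.range_eq_map, Subgroup.range_subtype] at htop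
    refine htop.ge.trans (sup_le ?_ (h P hP.1))
    rw [hR, Subgroup.subgroupOf_map_subtype]
    refine inf_le_left.trans ?_
    intro β hβ
    obtain ⟨g, hg, -, hgβ⟩ := mem_autInducedBy_iff.1 hβ
    exact (mem_autGroup_iff (hP.1.trans hTU)).2 (conj_mem' (hP.1.trans hTU) (hTU hg) hgβ)
  exact (mem_autGroup_iff (hP.1.trans hTU)).1 (hle hα)

end CfsgLib.FusionPIndex
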