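import Cfsg.Agent.FusionPIndex.Basic
import Cfsg.Agent.FusionClosed.StronglyClosed
import Cfsg.Prelude.Def_FusionReduction

/-!
# Residual limits and subsystems of `p`-power index

* `hyperfocal_eq_of_hasPPowerIndex`: a subsystem of `p`-power index on a strongly closed subgroup
  has the same hyperfocal subgroup.
* `residualLimit_unique`: residual limits of a saturated system are unique.
* `residualLimit_of_hasPPowerIndex`: a residual limit of `F` is one of each such subsystem.
-/

set_option autoImplicit false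
set_option linter.style.haveILetI false

namespace CfsgLib.FusionPIndex

open Cfsg Cfsg.FusionSystem CfsgLib.Fusion CfsgLib.FusionAgemo CfsgLib.FusionClosed

universe u

variable {Ω : Type u} [Group Ω] {S T U V : Subgroup Ω} {p : ℕ}

theorem hyperfocal_mono {E : FusionSystem T} {F : FusionSystem S} (h : E.IsSubsystemOf F) :
    E.hyperfocalSubgroup p ≤ F.hyperfocalSubgroup p := by
  refine (Subgroup.closure_le _).2 ?_
  rintro y ⟨P, α, x, hP, hα, rfl⟩
  obtain ⟨β, hβ, hβα⟩ := pResidual_autGroup_mono (p := p) h hP ⟨α, hα, rfl⟩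
  exact Subgroup.subset_closure ⟨P, β, x,
    (F.le_of_mem (h P (subtype_mem hP))).1, hβ, by
      rw [show (β : MulAut P) = (α : MulAut P) from hβα]⟩

theorem hyperfocal_eq_of_hasPPowerIndex [Finite S] [Fact p.Prime] (hS : IsPGroup p S)
    {F : FusionSystem S} {E : FusionSystem T} (hT : F.StronglyClosed T)
    (h : E.HasPPowerIndexIn F p) : E.hyperfocalSubgroup p = F.hyperfocalSubgroup p := by
  obtain ⟨hEF, hhyp, hidx⟩ := h
  refine le_antisymm (hyperfocal_mono hEF) ((Subgroup.closure_le _).2 ?_)
  rintro y ⟨P, α, x, hP, hα, rfl⟩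
  set H := E.hyperfocalSubgroup p with hH
  haveI := finite_of_le hP
  suffices hall : ∀ x : P, (x : Ω)⁻¹ * ((α : MulAut P) x : P) ∈ H from hall x
  clear x
  refine Subgroup.closure_induction (p := fun (a : ↥(F.autGroup P)) _ => ∀ x : P, (x : Ω)⁻¹ * ((a : MulAut P) x : P) ∈ H)
    ?_ (fun x => by simp) ?_ ?_ hα
  · intro a ha x
    let c : P := x⁻¹ * (a : MulAut P) x
    let P' : Subgroup Ω := P ⊓ T
    have hP'P : P' ≤ P := inf_le_left
    have haiff : ∀ (γ : MulAut P), γ ∈ F.autGroup P → ∀ y : P, ((γ y : P) : Ω) ∈ T ↔ (y : Ω) ∈ T :=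
      fun γ hγ y => aut_mem_stronglyClosed_iff hT hP hγ
    have hrest : ∀ (k : ℕ) (y : P), (y : Ω) ∈ T →
        (y : Ω)⁻¹ * ((((a : MulAut P) ^ k) y : P) : Ω) ∈ H := by
      intro k y hy
      have hγ : (a : MulAut P) ^ k ∈ F.autGroup P := pow_mem a.2 k
      let res : MulAut P' :=
        { toFun := fun z => ⟨((((a : MulAut P) ^ k) ⟨z, z.2.1⟩ : P) : Ω),
            ⟨Subtype.coe_prop _, (haiff _ hγ _).2 z.2.2⟩⟩
          invFun := fun z => ⟨((((a : MulAut P) ^ k).symm ⟨z, z.2.1⟩ : P) : Ω),
            ⟨Subtype.coe_prop _, (haiff _ hγ _).1 (by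
              rw [MulEquiv.apply_symm_apply]; exact z.2.2)⟩⟩
          left_inv := fun z => Subtype.ext (by simp)
          right_inv := fun z => Subtype.ext (by simp)
          map_mul' := fun z w => Subtype.ext (by
            show (((((a : MulAut P) ^ k) (⟨z, z.2.1⟩ * ⟨w, w.2.1⟩) : P)) : Ω) = _
            rw [map_mul]; rfl) }
      have hresF : res ∈ F.autGroup P' :=
        (mem_autGroup_iff (hP'P.trans hP)).2
          (mem_of_agree ((mem_autGroup_iff hP).1 hγ) hP'P fun z => rfl)
      have hresord : (orderOf res).Coprime p := by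
        refine Nat.Coprime.coprime_dvd_left ?_ ha
        refine orderOf_dvd_of_pow_eq_one (MulEquiv.ext fun z => Subtype.ext ?_)
        have hpow : ∀ n : ℕ, ∀ z : P', ((res ^ n) z : Ω) =
            ((((a : MulAut P) ^ k) ^ n) ⟨z, z.2.1⟩ : P) := by
          intro n
          induction n with
          | zero => intro z; rfl
          | succ n ih =>
            intro z
            rw [pow_succ', pow_succ', MulAut.mul_apply, MulAut.mul_apply]
            show ((((a : MulAut P) ^ k) ⟨_, _⟩ : P) : Ω) = _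
            exact congrArg (fun w : P => ((((a : MulAut P) ^ k) w : P) : Ω)) (Subtype.ext (ih z))
        have hone : (((a : MulAut P) ^ k) ^ orderOf a) = 1 := by
          rw [← pow_mul, mul_comm, pow_mul, ← SubgroupClass.coe_pow, pow_orderOf_eq_one]
          simp
        rw [hpow, hone]
        rfl
      have hresE : res ∈ E.autGroup P' := hidx P' inf_le_right
        ⟨⟨res, hresF⟩, Subgroup.subset_closure (by simpa using hresord), rfl⟩
      exact Subgroup.subset_closure ⟨P', ⟨res, hresE⟩, ⟨y, y.2, hy⟩, inf_le_right,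
        Subgroup.subset_closure (by simpa using hresord), rfl⟩
    have hcT : (c : Ω) ∈ T :=
      hhyp (Subgroup.subset_closure ⟨P, a, x, hP, Subgroup.subset_closure ha, rfl⟩)
    let Dgen : Set P := {d | ∃ (k : ℕ) (y : P), (y : Ω) ∈ T ∧ d = y⁻¹ * ((a : MulAut P) ^ k) y}
    let D : Subgroup P := Subgroup.closure Dgen
    have hDH : ∀ d ∈ D, (d : Ω) ∈ H := by
      intro d hd
      induction hd using Subgroup.closure_induction with
      | mem d hd => obtain ⟨k, y, hy, rfl⟩ := hd; exact hrest k y hy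
      | one => exact H.one_mem
      | mul d e _ _ h1 h2 => exact H.mul_mem h1 h2
      | inv d _ h1 => exact H.inv_mem h1
    have hconj : ∀ d ∈ D, c⁻¹ * d * c ∈ D := by
      intro d hd
      induction hd using Subgroup.closure_induction with
      | mem d hd =>
        obtain ⟨k, y, hy, rfl⟩ := hd
        have e : c⁻¹ * (y⁻¹ * ((a : MulAut P) ^ k) y) * c =
            ((y * c)⁻¹ * ((a : MulAut P) ^ k) (y * c)) * (c⁻¹ * ((a : MulAut P) ^ k) c)⁻¹ := by
          rw [map_mul]; group
        rw [e]
        exact D.mul_mem (Subgroup.subset_closure ⟨k, y * c, T.mul_mem hy hcT, rfl⟩)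
          (D.inv_mem (Subgroup.subset_closure ⟨k, c, hcT, rfl⟩))
      | one => simp
      | mul d e _ _ h1 h2 => simpa [mul_assoc] using D.mul_mem h1 h2
      | inv d _ h1 => simpa [mul_assoc] using D.inv_mem h1
    have hk : ∀ k : ℕ, (c ^ k)⁻¹ * (x⁻¹ * ((a : MulAut P) ^ k) x) ∈ D := by
      intro k
      induction k with
      | zero => simp
      | succ k ih =>
        have hd : c⁻¹ * ((a : MulAut P) ^ k) c ∈ D := Subgroup.subset_closure ⟨k, c, hcT, rfl⟩
        have e : (c ^ (k + 1))⁻¹ * (x⁻¹ * ((a : MulAut P) ^ (k + 1)) x) =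
            (c⁻¹ * ((c ^ k)⁻¹ * (x⁻¹ * ((a : MulAut P) ^ k) x)) * c) *
              (c⁻¹ * ((a : MulAut P) ^ k) c) := by
          rw [pow_succ (a : MulAut P), MulAut.mul_apply,
            show (a : MulAut P) x = x * c from (mul_inv_cancel_left x _).symm, map_mul, pow_succ]
          group
        rw [e]
        exact D.mul_mem (hconj _ ih) hd
    have hcm : c ^ orderOf a ∈ D := by
      have h1 := hk (orderOf a)
      rw [← SubgroupClass.coe_pow, pow_orderOf_eq_one] at h1
      simp only [OneMemClass.coe_one, MulAut.one_apply, inv_mul_cancel, mul_one] at h1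
      exact (D.inv_mem_iff).1 h1
    obtain ⟨j, hj⟩ := (hS.to_le hP) c
    have hcD : c ∈ D := by
      obtain ⟨u, v, huv⟩ : IsCoprime ((orderOf a : ℕ) : ℤ) ((p ^ j : ℕ) : ℤ) :=
        Nat.isCoprime_iff_coprime.2 (Nat.Coprime.pow_right j ha)
      have e : c = (c ^ orderOf a) ^ u * (c ^ (p ^ j)) ^ v := by
        rw [← zpow_natCast c (orderOf a), ← zpow_natCast c (p ^ j), ← zpow_mul, ← zpow_mul,
          ← zpow_add, mul_comm ((orderOf a : ℕ) : ℤ), mul_comm ((p ^ j : ℕ) : ℤ), huv, zpow_one]
      rw [e, hj, one_zpow, mul_one]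
      exact D.zpow_mem hcm u
    exact hDH c hcD
  · intro a b _ _ ha hb x
    have e : (x : Ω)⁻¹ * ((((a * b : F.autGroup P) : MulAut P)) x : P) =
        ((x : Ω)⁻¹ * ((b : MulAut P) x : P)) *
          ((((b : MulAut P) x : P) : Ω)⁻¹ * ((a : MulAut P) ((b : MulAut P) x) : P)) := by
      simp [mul_assoc]
    rw [e]
    exact H.mul_mem (hb x) (ha _)
  · intro a _ ha x
    have h1 := H.inv_mem (ha ((a : MulAut P).symm x))
    simp only [MulEquiv.apply_symm_apply, mul_inv_rev, inv_inv] at h1
    exact h1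

/-- Two systems in one ambient group with the same subgroup and the same maps. -/
def SameMaps (E : FusionSystem T) (F : FusionSystem S) : Prop :=
  T = S ∧ ∀ P, E.Hom P = F.Hom P

theorem system_ext {E F : FusionSystem S} (h : ∀ P, E.Hom P = F.Hom P) : E = F := by
  cases E; cases F; congr; exact funext h

theorem system_eq_of_le {E F : FusionSystem S} (h : E.IsSubsystemOf F) (h' : F.IsSubsystemOf E) :
    E = F := system_ext fun P => Set.Subset.antisymm (h P) (h' P)

theorem le_of_pPowerIndex [Finite S] [Fact p.Prime] (hS : IsPGroup p S) {F : FusionSystem S}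
    {D : FusionSystem U} {E : FusionSystem T} (hD : D.IsSaturated p) (hDF : D.IsSubsystemOf F)
    (hU : U ≤ T) (hUS : U ≤ S) (hE : E.HasPPowerIndexIn F p) : D.IsSubsystemOf E := by
  haveI := finite_of_le hUS
  exact isSubsystemOf_of_pResidual (hS.to_le hUS) hD hU fun P hP =>
    (pResidual_autGroup_mono hDF hP).trans (hE.2.2 P (hP.trans hU))

theorem hasPPowerIndexIn_self (F : FusionSystem S) : F.HasPPowerIndexIn F p :=
  ⟨fun _ => subset_rfl, by
    refine (Subgroup.closure_le _).2 ?_
    rintro y ⟨P, α, x, hP, -, rfl⟩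
    exact S.mul_mem (S.inv_mem (hP x.2)) (hP ((α : MulAut P) x).2),
    fun P _ => Subgroup.map_subtype_le _⟩

theorem residualLimit_stable {E : FusionSystem T} {S : Subgroup Ω} {p : ℕ}
    {F : FusionSystem S} (h : E.IsResidualLimitOf F p) (hp : Fact p.Prime) (hfin : Finite S)
    (hS : IsPGroup p S)
    (hF : F.IsSaturated p) (hhyp : F.hyperfocalSubgroup p = S) (hres : F.IsPPrimeResidual p F) :
    SameMaps E F := by
  induction h with
  | stable G p _ _ => exact ⟨rfl, fun _ => rfl⟩
  | @step S E G p D D' hD hD' _ ih =>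
    haveI := hfin
    haveI := hp
    have main : ∀ (U : Subgroup Ω) (X X' : FusionSystem U), U = S → X.IsSaturated p →
        X.HasPPowerIndexIn G p → X.IsPPrimeResidual p X' → (Finite U → IsPGroup p U →
          X'.IsSaturated p → X'.hyperfocalSubgroup p = U → X'.IsPPrimeResidual p X' →
          SameMaps E X') → SameMaps E G := by
      intro U X X' hU hDs hDi hDp hih
      subst hU
      have hDG : X = G := system_eq_of_le hDi.1
        (le_of_pPowerIndex hS hF (fun _ => subset_rfl) le_rfl le_rfl hDi)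
      subst hDG
      have hD'D : X' = X := system_eq_of_le hDp.2.1.1 (hres.2.2 X' hDp.1 hDp.2.1)
      subst hD'D
      exact hih hfin hS hF hhyp hres
    exact main _ D D' hhyp hD.1 hD.2 hD' (ih hp)

theorem residualLimit_unique {L₁ : FusionSystem U} {L₂ : FusionSystem V}
    {S : Subgroup Ω} {p : ℕ} {F : FusionSystem S} (h1 : L₁.IsResidualLimitOf F p)
    (h2 : L₂.IsResidualLimitOf F p) (hp : Fact p.Prime) (hfin : Finite S) (hS : IsPGroup p S) (hF : F.IsSaturated p) :
    SameMaps L₁ L₂ := by
  induction h1 with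
  | stable G p hhyp hres =>
    obtain ⟨hVS, heq⟩ := residualLimit_stable h2 hp hfin hS hF hhyp hres
    exact ⟨hVS.symm, fun P => (heq P).symm⟩
  | @step S E G p D D' hD hD' hE ih =>
    haveI := hfin
    haveI := hp
    cases h2 with
    | stable _ _ hhyp hres =>
      exact residualLimit_stable (IsResidualLimitOf.step _ _ D D' hD hD' hE) hp hfin hS hF hhyp hres
    | step G' q D₂ D₂' hD₂ hD₂' hE₂ =>
      have hle : G.hyperfocalSubgroup p ≤ S := (hasPPowerIndexIn_self G).2.1
      have hDD : D₂ = D := system_eq_of_le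
        (le_of_pPowerIndex hS hD₂.1 hD₂.2.1 le_rfl hle hD.2)
        (le_of_pPowerIndex hS hD.1 hD.2.1 le_rfl hle hD₂.2)
      subst hDD
      have hDD' : D₂' = D' := system_eq_of_le (hD₂'.2.2 D' hD'.1 hD'.2.1) (hD'.2.2 D₂' hD₂'.1 hD₂'.2.1)
      subst hDD'
      exact ih hE₂ hp (finite_of_le hle) (hS.to_le hle) hD₂'.1

theorem residualLimit_of_hasPPowerIndex [Fact p.Prime] {L : FusionSystem U} {S : Subgroup Ω}
    {F : FusionSystem S} {E : FusionSystem T} (h : L.IsResidualLimitOf F p) (hfin : Finite S)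
    (hS : IsPGroup p S) (hF : F.IsSaturated p) (hE : E.IsSaturated p) (hT : F.StronglyClosed T)
    (hi : E.HasPPowerIndexIn F p) : L.IsResidualLimitOf E p := by
  haveI := hfin
  have hhyp := hyperfocal_eq_of_hasPPowerIndex hS hT hi
  cases h with
  | stable _ _ h1 h2 =>
    have hTS : T = U := le_antisymm hT.1 (h1.ge.trans hi.2.1)
    subst hTS
    have hEF : E = L := system_eq_of_le hi.1
      (le_of_pPowerIndex hS hF (fun _ => subset_rfl) le_rfl le_rfl hi)
    subst hEF
    exact IsResidualLimitOf.stable E p h1 h2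
  | step _ _ D D' hD hD' hL =>
    have main : ∀ (W : Subgroup Ω) (D D' : FusionSystem W), W = E.hyperfocalSubgroup p →
        D.IsSaturated p → D.HasPPowerIndexIn E p → D.IsPPrimeResidual p D' →
        L.IsResidualLimitOf D' p → L.IsResidualLimitOf E p := by
      intro W D D' hW hDs hDi hDp hl
      subst hW
      exact IsResidualLimitOf.step E p D D' ⟨hDs, hDi⟩ hDp hl
    have hle : F.hyperfocalSubgroup p ≤ T := hi.2.1
    exact main _ D D' hhyp.symm hD.1
      ⟨le_of_pPowerIndex hS hD.1 hD.2.1 hle (hle.trans hT.1) hi, hhyp.le,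
        fun P hP => (pResidual_autGroup_mono hi.1 (hP.trans hle)).trans (hD.2.2.2 P hP)⟩ hD' hL

end CfsgLib.FusionPIndex
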